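import Groth.Agent.Lib.RefK12.Setup
import Groth.Agent.Lib.Ref1.SecOrd
import Groth.Agent.Lib.C1.RZ
import Groth.Agent.Lib.CycDiv.Support
import Groth.Agent.Lib.WDivAff.Order
import Groth.Agent.S1905

/-!
# Divisors of rational functions on an integral scheme
-/

set_option autoImplicit false
set_option backward.isDefEq.respectTransparency false

universe u

open CategoryTheory CategoryTheory.Limits AlgebraicGeometry TopologicalSpace
open GrothLib.Ref1

noncomputable section

namespace GrothLib.ClProd17

variable {X : Scheme.{u}} [IsIntegral X] {δ : X → ℤ}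

/-- The divisor of a rational function. -/
def dv (δ : X → ℤ) (φ : X.functionField) (x : X) : ℤ :=
  Cyc.divFun δ (genericPoint X) ((X.residue (genericPoint X)).hom φ) x

theorem eq_genericPoint_of_delta (hδ : Cyc.IsSetup X δ) {x : X} (hx : δ x = δ (genericPoint X)) :
    x = genericPoint X := by
  by_contra hne
  have := (hδ.2.2 (genericPoint X) x (genericPoint_specializes x) (Ne.symm hne)).1
  omega

theorem delta_of_coheight (hδ : Cyc.IsSetup X δ) {x : X} (hx : Order.coheight x = 1) :
    δ x = δ (genericPoint X) - 1 := by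
  have hne : genericPoint X ≠ x := by
    intro e
    have h0 : Order.coheight (genericPoint X) = 0 := Order.coheight_eq_zero.2 (isMax_top (α := X))
    rw [e, hx] at h0
    exact one_ne_zero h0
  have := (hδ.2.2 (genericPoint X) x (genericPoint_specializes x) hne).2 fun z h1 h2 => ?_
  · omega
  by_contra hc
  push Not at hc
  have hlt : x < z := lt_of_le_not_ge (Scheme.le_iff_specializes.2 h2)
    fun e => hc.2 ((Scheme.le_iff_specializes.1 e).antisymm h2).eq.symm
  have hlt2 : z < genericPoint X := lt_of_le_not_ge (Scheme.le_iff_specializes.2 h1)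
    fun e => hc.1 ((Scheme.le_iff_specializes.1 e).antisymm h1).eq
  have h3 := Order.coheight_add_one_le hlt
  have h4 := Order.coheight_add_one_le hlt2
  rw [hx] at h3
  have h5 : (2 : ℕ∞) ≤ 1 := calc
    (2 : ℕ∞) = 1 + 1 := rfl
    _ ≤ Order.coheight z + 1 := add_le_add (le_trans le_add_self h4) le_rfl
    _ ≤ 1 := h3
  exact absurd h5 (by decide)

theorem coheight_of_delta (hδ : Cyc.IsSetup X δ) {x : X} (hx : δ x = δ (genericPoint X) - 1) :
    Order.coheight x = 1 :=
  RefK12.coheight_eq_one hδ rfl hx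

theorem dv_eq_zero {φ : X.functionField} {x : X} (hx : δ x ≠ δ (genericPoint X) - 1) : dv δ φ x = 0 :=
  dif_neg fun h => hx (by omega)

theorem dv_eq_ord [IsLocallyNoetherian X] (hδ : Cyc.IsSetup X δ) {φ : X.functionField} (hφ : φ ≠ 0) {x : X}
    (hx : δ x = δ (genericPoint X) - 1) : dv δ φ x = Scheme.ord φ x := by
  rw [dv, Cyc.divFun, dif_pos ⟨genericPoint_specializes x, by omega⟩]
  exact Ref1.ordAt_residue (coheight_of_delta hδ hx) _ hφ

theorem residue_ne_zero {φ : X.functionField} (hφ : φ ≠ 0) : (X.residue (genericPoint X)).hom φ ≠ 0 :=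
  fun h => hφ (Ref1.residue_injective (h.trans (map_zero _).symm))

theorem dv_mul (hδ : Cyc.IsSetup X δ) {a b : X.functionField} (ha : a ≠ 0) (hb : b ≠ 0) (x : X) :
    dv δ (a * b) x = dv δ a x + dv δ b x := by
  haveI := hδ.1
  rw [dv, map_mul]
  exact C1.divFun_mul hδ.2.2 (residue_ne_zero ha) (residue_ne_zero hb) x

theorem dv_one (hδ : Cyc.IsSetup X δ) (x : X) : dv δ (1 : X.functionField) x = 0 := by
  haveI := hδ.1
  rw [dv, map_one]
  exact C1.divFun_one hδ.2.2 _ x

/-- Divisors rationally equivalent to zero are divisors of functions. -/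
theorem rz_iff (hδ : Cyc.IsSetup X δ) {α : AlgebraicCycle X ℤ} :
    Cyc.RatEquivZero δ (δ (genericPoint X) - 1) α ↔ ∃ φ : X.functionField, φ ≠ 0 ∧ ∀ x, α x = dv δ φ x := by
  haveI := hδ.1
  constructor
  · intro h
    obtain ⟨f, h1, -, h3, h4⟩ := C1.RZ.of_ratEquivZero hδ.2.2 h
    obtain ⟨φ, hφ⟩ := X.residue_surjective (genericPoint X) (f (genericPoint X))
    refine ⟨φ, fun e => h1 _ (by rw [← hφ, e]; exact map_zero _), fun x => ?_⟩
    rw [h4 x, finsum_eq_single _ (genericPoint X) fun z hz => ?_, ← hφ]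
    · rfl
    · have : f z = 1 := by
        by_contra hne
        exact hz (eq_genericPoint_of_delta hδ (by have := h3 z hne; omega))
      rw [this]
      exact C1.divFun_one hδ.2.2 z x
  · rintro ⟨φ, hφ, h⟩
    refine ⟨PUnit, fun _ => genericPoint X, fun _ => (X.residue (genericPoint X)).hom φ, fun _ => (sub_add_cancel _ _).symm,
      fun _ => residue_ne_zero hφ, fun x => ⟨Set.univ, isOpen_univ, trivial, Set.toFinite _⟩, fun x => ?_⟩
    rw [h x, finsum_unique]
    rfl

theorem divFun_congr_point {a b : X} (h : a = b) (φ : X.presheaf.stalk b) :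
    Cyc.divFun δ a ((X.residue a).hom ((X.presheaf.stalkSpecializes (specializes_of_eq h)).hom φ)) =
      Cyc.divFun δ b ((X.residue b).hom φ) := by
  subst h
  rw [show X.presheaf.stalkSpecializes (specializes_of_eq (rfl : a = a)) = 𝟙 _ from
    TopCat.Presheaf.stalkSpecializes_refl _ _]
  rfl

/-- Flat pullback of a divisor is the divisor of the pullback. -/
theorem dv_pullK {P : Scheme.{u}} [IsIntegral P] {δP : P → ℤ} (hP : Cyc.IsSetup P δP) (hδ : Cyc.IsSetup X δ)
    (p : P ⟶ X) [Flat p] [LocallyOfFiniteType p] {r : ℕ} (hr : Cyc.HasRelDim p r)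
    (hc : Cyc.DeltaCompat p δP δ) (h : p (genericPoint P) = genericPoint X) {φ : X.functionField} (hφ : φ ≠ 0)
    (z : P) : dv δP ((WDivAff.pullK p h).hom φ) z = Cyc.pullFun p δP δ r (dv δ φ) z := by
  have hne : (X.residue (p (genericPoint P))).hom ((X.presheaf.stalkSpecializes (specializes_of_eq h)).hom φ) ≠ 0 := by
    intro e
    refine ((((isUnit_of_ne_zero hφ).map (X.presheaf.stalkSpecializes (specializes_of_eq h)).hom)).map
      (X.residue (p (genericPoint P))).hom).ne_zero e
  have h1 := Groth.Agent.S1905.result P X δP δ hP hδ p r hr hc _ hne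
  rw [divFun_congr_point h φ] at h1
  show Cyc.divFun δP (genericPoint P) ((P.residue (genericPoint P)).hom ((WDivAff.pullK p h).hom φ)) z = _
  rw [show dv δ φ = Cyc.divFun δ (genericPoint X) ((X.residue (genericPoint X)).hom φ) from rfl, h1]
  congr 1

theorem pullK_comp {A B C : Scheme.{u}} [IsIntegral A] [IsIntegral B] [IsIntegral C] (f : A ⟶ B) (g : B ⟶ C)
    (c : A ⟶ C) (e : f ≫ g = c) (hf : f (genericPoint A) = genericPoint B) (hg : g (genericPoint B) = genericPoint C)
    (hc : c (genericPoint A) = genericPoint C) :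
    WDivAff.pullK g hg ≫ WDivAff.pullK f hf = WDivAff.pullK c hc := by
  subst e
  simp only [WDivAff.pullK, Category.assoc]
  rw [Scheme.Hom.stalkMap_comp, ← Scheme.Hom.stalkSpecializes_stalkMap_assoc,
    TopCat.Presheaf.stalkSpecializes_comp_assoc]

theorem generic_of_flat {A B : Scheme.{u}} [IsIntegral A] [IsIntegral B] (f : A ⟶ B) [Flat f] :
    f (genericPoint A) = genericPoint B := by
  obtain ⟨w, hw, hfw⟩ := Flat.generalizingMap f (genericPoint_specializes (f (genericPoint A)))
  rw [← hfw, (hw.antisymm (genericPoint_specializes w)).eq]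

end GrothLib.ClProd17
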