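import Groth.Agent.Lib.ClProd17.Fib
import Groth.Agent.Lib.WDivAff.Main
import Groth.Agent.Lib.PBDeg17.GysinCap
import Groth.Agent.Lib.Gonflement.Separable

/-!
# Functions on a product with a variety having an affine chart in affine space
-/

set_option autoImplicit false
set_option backward.isDefEq.respectTransparency false

universe u

open CategoryTheory CategoryTheory.Limits AlgebraicGeometry TopologicalSpace
open GrothLib.CycFlat GrothLib.Ref1 GrothLib.WDivAff GrothLib.PicAff26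

noncomputable section

namespace GrothLib.ClProd17

theorem inj_generic {U X : Scheme.{u}} [IsIntegral U] [IsIntegral X] (i : U ⟶ X) [IsOpenImmersion i] {u : U}
    (h : i u = genericPoint X) : u = genericPoint U :=
  i.isOpenEmbedding.injective (h.trans (generic_of_flat i).symm)

theorem res_eq_pullK {U X : Scheme.{u}} [IsIntegral U] [IsIntegral X] (i : U ⟶ X) [IsOpenImmersion i] :
    OrdOpen.res i = pullK i (generic_of_flat i) := rfl

theorem eq_of_specializes_one {W : Scheme.{u}} [IsIntegral W] {H y : W} (hs : H ⤳ y)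
    (hne : H ≠ genericPoint W) (hy : Order.coheight y = 1) : y = H := by
  by_contra hyH
  have hlt : y < H := lt_of_le_not_ge (Scheme.le_iff_specializes.2 hs)
    fun h2 => hyH ((Scheme.le_iff_specializes.1 h2).antisymm hs).eq
  have hlt2 : H < genericPoint W := lt_of_le_not_ge (Scheme.le_iff_specializes.2 (genericPoint_specializes H))
    fun h2 => hne ((Scheme.le_iff_specializes.1 h2).antisymm (genericPoint_specializes H)).eq
  have h1 := Order.coheight_add_one_le hlt
  have h2 := Order.coheight_add_one_le hlt2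
  rw [hy] at h1
  exact absurd (calc
    (2 : ℕ∞) = 1 + 1 := rfl
    _ ≤ Order.coheight H + 1 := add_le_add (le_trans le_add_self h2) le_rfl
    _ ≤ 1 := h1) (by decide)

/-- A flat map keeps or lowers codimension one to the generic point. -/
theorem coheight_image {W A : Scheme.{u}} [IsIntegral W] [IsIntegral A] (a : W ⟶ A) [Flat a] {y : W}
    (hy : Order.coheight y = 1) (hne : a y ≠ genericPoint A) :
    Order.coheight (a y) = 1 ∧ MaxFib a y := by
  refine ⟨le_antisymm (Order.coheight_le_coe_iff.2 fun w hw => ?_) ?_, fun w hw hs => ?_⟩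
  · obtain ⟨w', hw', rfl⟩ := Flat.generalizingMap a (Scheme.le_iff_specializes.1 hw.le)
    have hw0 : w' = genericPoint W := by
      by_contra hne'
      exact hw.ne (congrArg a (eq_of_specializes_one hw' hne' hy))
    rw [hw0, generic_of_flat a, (Order.coheight_eq_zero.2 (isMax_top (α := A)) : Order.coheight (genericPoint A) = 0)]
    exact zero_lt_one
  · exact le_trans le_add_self (Order.coheight_add_one_le (lt_of_le_not_ge
      (Scheme.le_iff_specializes.2 (genericPoint_specializes (a y)))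
      fun e => hne ((Scheme.le_iff_specializes.1 e).antisymm (genericPoint_specializes (a y))).eq))
  · by_contra hne'
    have : w = genericPoint W := by
      by_contra h0
      exact hne' (eq_of_specializes_one hs h0 hy).symm
    exact hne (by rw [← hw, this, generic_of_flat a])

section Point

variable {K : Type u} [Field K] {n : Type u} [Finite n]

theorem coord_fun (v : 𝔸(n; Spec (CommRingCat.of K))) (hv : Order.coheight v = 1) :
    IsDiscreteValuationRing ((𝔸(n; Spec (CommRingCat.of K))).presheaf.stalk v) ∧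
    ∃ c : (𝔸(n; Spec (CommRingCat.of K))).functionField, c ≠ 0 ∧ Scheme.ord c v = 1 ∧
      ∀ v', Order.coheight v' = 1 → v' ≠ v → Scheme.ord c v' = 0 := by
  haveI : Subsingleton ↥(Spec (CommRingCat.of K)) := inferInstanceAs (Subsingleton (PrimeSpectrum K))
  haveI : IsLocallyNoetherian 𝔸(n; Spec (CommRingCat.of K)) :=
    LocallyOfFiniteType.isLocallyNoetherian (𝔸(n; Spec (CommRingCat.of K)) ↘ Spec (CommRingCat.of K))
  have hB : IsAffineOpen (⊤ : (Spec (CommRingCat.of K)).Opens) := isAffineOpen_top _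
  have hm : v ∈ tOpen n (⊤ : (Spec (CommRingCat.of K)).Opens) := trivial
  haveI : Nonempty (tOpen n (⊤ : (Spec (CommRingCat.of K)).Opens)) := ⟨⟨v, hm⟩⟩
  refine ⟨?_, ?_⟩
  · obtain ⟨π, -, hπ0, hmax, -⟩ := maximalIdeal_horiz hB hm hv (Subsingleton.elim _ _)
    obtain ⟨_, h⟩ := Gonflement.dvr_of_principal hmax fun k hk => by
      have h0 : tg hB hm π ≠ 0 := fun e =>
        hπ0 (kP_injective hB (by rw [kP_eq hB hm, e, map_zero, map_zero]))
      exact pow_ne_zero k h0 hk
    exact h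
  · obtain ⟨c, h0, h1, h2⟩ := exists_horiz_fun hB hm hv (Subsingleton.elim _ _)
    exact ⟨c, h0, h1, fun v' hv' hne => h2 v' hv' (Subsingleton.elim _ _) hne⟩

end Point

variable {K : Type u} [Field K] [IsAlgClosed K] {X Y P : Scheme.{u}} [IsIntegral X] [IsIntegral Y] [IsIntegral P]
  [IsLocallyNoetherian P] [IsLocallyNoetherian Y]
  {p : P ⟶ X} {q : P ⟶ Y} {f : X ⟶ Spec (CommRingCat.of K)} {g : Y ⟶ Spec (CommRingCat.of K)}
  [LocallyOfFiniteType g]
  {n : Type u} [Finite n] {U : X.Opens} (i : (U : Scheme.{u}) ⟶ 𝔸(n; Spec (CommRingCat.of K))) [IsOpenImmersion i]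

theorem map_max_of_eq (hsq : IsPullback p q f g) {z : P} (hz : MaxFib p z) :
    (IsLocalRing.maximalIdeal (X.presheaf.stalk (p z))).map (p.stalkMap z).hom =
      IsLocalRing.maximalIdeal (P.presheaf.stalk z) := by
  have : ∀ x z', z' = zfib hsq x → (IsLocalRing.maximalIdeal (X.presheaf.stalk (p z'))).map (p.stalkMap z').hom =
      IsLocalRing.maximalIdeal (P.presheaf.stalk z') := by
    rintro x z' rfl
    exact map_max_zfib hsq x
  exact this (p z) z (eq_zfib hsq hz)

variable (hi : i ≫ (𝔸(n; Spec (CommRingCat.of K)) ↘ Spec (CommRingCat.of K)) = U.ι ≫ f) (hsq : IsPullback p q f g)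
include hi hsq

theorem exists_chart : ∃ (j : ((p ⁻¹ᵁ U : P.Opens) : Scheme.{u}) ⟶ 𝔸(n; Y)),
    IsOpenImmersion j ∧ j ≫ AffineSpace.map n g = (p ∣_ U) ≫ i ∧
      j ≫ (𝔸(n; Y) ↘ Y) = (p ⁻¹ᵁ U).ι ≫ q ∧
      Set.range j = (AffineSpace.map n g) ⁻¹' Set.range i := by
  have hT := (AffineSpace.isPullback_map (n := n) g).flip
  have h2 := ((isPullback_morphismRestrict p U).flip.paste_horiz hsq.flip)
  rw [← hi] at h2
  have hw : ((p ⁻¹ᵁ U).ι ≫ q) ≫ g = ((p ∣_ U) ≫ i) ≫ (𝔸(n; Spec (CommRingCat.of K)) ↘ Spec (CommRingCat.of K)) := by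
    rw [h2.w, Category.assoc]
  let j := hT.lift ((p ⁻¹ᵁ U).ι ≫ q) ((p ∣_ U) ≫ i) hw
  have e1 : j ≫ (𝔸(n; Y) ↘ Y) = (p ⁻¹ᵁ U).ι ≫ q := hT.lift_fst _ _ _
  have e2 : j ≫ AffineSpace.map n g = (p ∣_ U) ≫ i := hT.lift_snd _ _ _
  rw [← e1] at h2
  have hj : IsPullback j (p ∣_ U) (AffineSpace.map n g) i := IsPullback.of_right h2 e2 hT
  exact ⟨j, MorphismProperty.of_isPullback (P := @IsOpenImmersion) hj.flip inferInstance, e2, e1,
    PBDeg.range_of_isPullback hj⟩

theorem horiz_fun (hne : (U : Set X).Nonempty) {z : P} (hx : p z = genericPoint X) (hy : q z = genericPoint Y)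
    (hz : Order.coheight z = 1) :
    ∃ c : P.functionField, c ≠ 0 ∧ Scheme.ord c z = 1 ∧ ∀ z', p z' = genericPoint X → q z' = genericPoint Y →
        Order.coheight z' = 1 → z' ≠ z → Scheme.ord c z' = 0 := by
  haveI : IsLocallyNoetherian 𝔸(n; Y) := LocallyOfFiniteType.isLocallyNoetherian (𝔸(n; Y) ↘ Y)
  obtain ⟨j, hjo, e2, e1, -⟩ := exists_chart i hi hsq
  have hU : genericPoint X ∈ U := ((genericPoint_spec X).mem_open_set_iff U.2).mpr (by simpa using hne)
  let ι := (p ⁻¹ᵁ U).ι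
  have hmem : ∀ w, p w = genericPoint X → ∃ u, ι u = w := fun w hw => ⟨⟨w, show p w ∈ U from hw ▸ hU⟩, rfl⟩
  obtain ⟨u, hu⟩ := hmem z hx
  haveI : Nonempty ((p ⁻¹ᵁ U : P.Opens) : Scheme.{u}) := ⟨u⟩
  haveI : IsIntegral ((p ⁻¹ᵁ U : P.Opens) : Scheme.{u}) := isIntegral_of_isOpenImmersion ι
  have hgen : ∀ w : ((p ⁻¹ᵁ U : P.Opens) : Scheme.{u}), q (ι w) = genericPoint Y →
      (𝔸(n; Y) ↘ Y) (j w) = genericPoint Y := fun w hw => by
    rw [← Scheme.Hom.comp_apply, e1, Scheme.Hom.comp_apply]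
    exact hw
  have hch : ∀ w, Order.coheight (j w) = Order.coheight (ι w) := fun w => by
    rw [OrdOpen.coheight_eq, OrdOpen.coheight_eq]
  obtain ⟨B, hB, hηB, -⟩ := exists_isAffineOpen_mem_and_subset (Opens.mem_top (genericPoint Y))
  have hjB : ∀ w, q (ι w) = genericPoint Y → j w ∈ tOpen n B := fun w hw =>
    show (𝔸(n; Y) ↘ Y) (j w) ∈ B from (hgen w hw).symm ▸ hηB
  haveI : Nonempty (tOpen n B) := ⟨⟨j u, hjB u (hu ▸ hy)⟩⟩
  obtain ⟨c, hc0, hc1, hc2⟩ := exists_horiz_fun hB (hjB u (hu ▸ hy)) ((hch u).trans (hu ▸ hz)) (hgen u (hu ▸ hy))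
  obtain ⟨cP, hcP⟩ := (OrdOpen.res_bijective ι).2 ((OrdOpen.res j).hom c)
  have hord : ∀ w, Scheme.ord cP (ι w) = Scheme.ord c (j w) := fun w => by
    rw [← OrdOpen.ord_res ι, hcP, OrdOpen.ord_res j]
  refine ⟨cP, fun e => hc0 ((OrdOpen.res_bijective j).1 (by rw [← hcP, e, map_zero, map_zero])), ?_, ?_⟩
  · rw [← hu, hord, hc1]
  · intro z' hx' hy' hz' hne'
    obtain ⟨u', rfl⟩ := hmem z' hx'
    rw [hord]
    exact hc2 _ ((hch u').trans hz') (hgen u' hy') fun e => hne' (by rw [j.isOpenEmbedding.injective e, hu])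

theorem exists_mul_pullback [CompactSpace Y] (hne : (U : Set X).Nonempty) {φ : P.functionField} (hφ : φ ≠ 0)
    (h0 : ∀ z, p z = genericPoint X → q z = genericPoint Y → Order.coheight z = 1 → Scheme.ord φ z = 0)
    (hp : p (genericPoint P) = genericPoint X) (hq : q (genericPoint P) = genericPoint Y) :
    ∃ (a : X.functionField) (b : Y.functionField), a ≠ 0 ∧ b ≠ 0 ∧
      φ = (pullK p hp).hom a * (pullK q hq).hom b := by
  classical
  haveI : IsLocallyNoetherian 𝔸(n; Y) := LocallyOfFiniteType.isLocallyNoetherian (𝔸(n; Y) ↘ Y)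
  haveI : IsLocallyNoetherian 𝔸(n; Spec (CommRingCat.of K)) :=
    LocallyOfFiniteType.isLocallyNoetherian (𝔸(n; Spec (CommRingCat.of K)) ↘ Spec (CommRingCat.of K))
  haveI : CompactSpace 𝔸(n; Y) := QuasiCompact.compactSpace_of_compactSpace (𝔸(n; Y) ↘ Y)
  have hT := AffineSpace.isPullback_map (n := n) g
  haveI := flat_proj hT
  obtain ⟨j, hjo, e2, e1, hr⟩ := exists_chart i hi hsq
  have hU : genericPoint X ∈ U := ((genericPoint_spec X).mem_open_set_iff U.2).mpr (by simpa using hne)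
  haveI : Nonempty (U : Scheme.{u}) := ⟨⟨_, hU⟩⟩
  haveI : IsIntegral (U : Scheme.{u}) := isIntegral_of_isOpenImmersion U.ι
  let ι := (p ⁻¹ᵁ U).ι
  haveI : Nonempty ((p ⁻¹ᵁ U : P.Opens) : Scheme.{u}) := ⟨⟨genericPoint P, show p (genericPoint P) ∈ U from hp ▸ hU⟩⟩
  haveI : IsIntegral ((p ⁻¹ᵁ U : P.Opens) : Scheme.{u}) := isIntegral_of_isOpenImmersion ι
  let a := AffineSpace.map n g
  have ha : a (genericPoint 𝔸(n; Y)) = genericPoint 𝔸(n; Spec (CommRingCat.of K)) := generic_of_flat a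
  obtain ⟨φT, hφT⟩ := (OrdOpen.res_bijective j).2 ((OrdOpen.res ι).hom φ)
  have hφT0 : φT ≠ 0 := fun e => hφ ((OrdOpen.res_bijective ι).1 (by rw [← hφT, e, map_zero, map_zero]))
  have hfin : {v : 𝔸(n; Spec (CommRingCat.of K)) | Order.coheight v = 1 ∧ Scheme.ord φT (zfib hT v) ≠ 0}.Finite := by
    refine ((finite_ord_support hφT0).image a).subset ?_
    intro v hv
    exact ⟨zfib hT v, ⟨by_contra fun h => hv.2 (Scheme.ord_eq_zero_of_coheight_neq_one h φT), hv.2⟩, p_zfib hT v⟩
  let S := hfin.toFinset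
  choose hd c hc0 hc1 hc2 using fun v : S => coord_fun (K := K) (n := n) v.1 (hfin.mem_toFinset.1 v.2).1
  let gA : (𝔸(n; Spec (CommRingCat.of K))).functionField := ∏ v : S, c v ^ Scheme.ord φT (zfib hT v.1)
  have hgA : gA ≠ 0 := Finset.prod_ne_zero_iff.2 fun v _ => zpow_ne_zero _ (hc0 v)
  have hgord : ∀ v : 𝔸(n; Spec (CommRingCat.of K)), Order.coheight v = 1 → Scheme.ord gA v = Scheme.ord φT (zfib hT v) := by
    intro v hv
    rw [ord_prod' _ _ (fun i _ => zpow_ne_zero _ (hc0 i))]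
    by_cases hvS : v ∈ S
    · rw [Finset.sum_eq_single ⟨v, hvS⟩]
      · rw [ord_zpow' (hc0 _), hc1 ⟨v, hvS⟩, _root_.mul_one]
      · intro i _ hi
        rw [ord_zpow' (hc0 _), hc2 i v hv fun e => hi (Subtype.ext e.symm), mul_zero]
      · exact fun h => absurd (Finset.mem_univ _) h
    · rw [Finset.sum_eq_zero]
      · by_contra hne'
        exact hvS (hfin.mem_toFinset.2 ⟨hv, Ne.symm hne'⟩)
      · intro i _
        rw [ord_zpow' (hc0 _), hc2 i v hv fun e => hvS (e ▸ i.2), mul_zero]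
  have hga : (pullK a ha).hom gA ≠ 0 := (map_ne_zero_iff _ (pullK_injective a ha)).2 hgA
  have hz0 : ∀ y : 𝔸(n; Y), Order.coheight y = 1 → (𝔸(n; Y) ↘ Y) y = genericPoint Y →
      Scheme.ord (φT / (pullK a ha).hom gA) y = 0 := by
    intro y hy hgy
    have hmul : Scheme.ord (φT / (pullK a ha).hom gA) y + Scheme.ord ((pullK a ha).hom gA) y =
        Scheme.ord φT y := by
      rw [← Scheme.ord_mul (div_ne_zero hφT0 hga) hga, div_mul_cancel₀ _ hga]
    by_cases hay : a y = genericPoint 𝔸(n; Spec (CommRingCat.of K))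
    · rw [ord_pullK_of_generic a ha hay hgA, add_zero] at hmul
      have hyr : y ∈ Set.range j := by
        rw [hr]
        exact ⟨genericPoint _, (generic_of_flat i).trans hay.symm⟩
      obtain ⟨u, rfl⟩ := hyr
      rw [hmul, ← OrdOpen.ord_res j, hφT, OrdOpen.ord_res ι]
      have hu : (p ∣_ U) u = genericPoint (U : Scheme.{u}) := inj_generic i (by
        rw [← Scheme.Hom.comp_apply, ← e2, Scheme.Hom.comp_apply]
        exact hay)
      refine h0 _ ?_ ?_ ?_
      · rw [← Scheme.Hom.comp_apply, ← morphismRestrict_ι, Scheme.Hom.comp_apply, hu]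
        exact generic_of_flat U.ι
      · rw [← Scheme.Hom.comp_apply, ← e1, Scheme.Hom.comp_apply]
        exact hgy
      · rwa [OrdOpen.coheight_eq, ← OrdOpen.coheight_eq j]
    · obtain ⟨hv, hmax⟩ := coheight_image a hy hay
      haveI : IsDiscreteValuationRing ((𝔸(n; Spec (CommRingCat.of K))).presheaf.stalk (a y)) := (coord_fun (K := K) (n := n) _ hv).1
      rw [ord_pullK a ha hy hv (map_max_of_eq hT hmax).ge, hgord _ hv, ← eq_zfib hT hmax] at hmul
      omega
  obtain ⟨b, hb, hbe⟩ := exists_of_horiz_zero (div_ne_zero hφT0 hga) hz0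
  have hφT' : φT = (pullK a ha).hom gA * (phi n Y).hom b := by
    rw [hbe, mul_div_cancel₀ _ hga]
  obtain ⟨aX, haX⟩ := (OrdOpen.res_bijective U.ι).2 ((OrdOpen.res i).hom gA)
  refine ⟨aX, b, fun e => hgA ((OrdOpen.res_bijective i).1 (by rw [← haX, e, map_zero, map_zero])), hb, ?_⟩
  apply (OrdOpen.res_bijective ι).1
  rw [← hφT, hφT', map_mul, map_mul]
  have hpU : (p ∣_ U) (genericPoint ((p ⁻¹ᵁ U : P.Opens) : Scheme.{u})) = genericPoint (U : Scheme.{u}) :=
    inj_generic U.ι (by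
      rw [← Scheme.Hom.comp_apply, morphismRestrict_ι, Scheme.Hom.comp_apply, generic_of_flat (p ⁻¹ᵁ U).ι]
      exact hp)
  congr 1
  · have h1 : (p ∣_ U ≫ i) (genericPoint _) = genericPoint 𝔸(n; Spec (CommRingCat.of K)) := by
      rw [Scheme.Hom.comp_apply, hpU]; exact generic_of_flat i
    have h2 : (ι ≫ p) (genericPoint _) = genericPoint X := by
      rw [Scheme.Hom.comp_apply, generic_of_flat ι]; exact hp
    have k1 := pullK_comp j a _ e2 (generic_of_flat j) ha h1
    have k2 := pullK_comp (p ∣_ U) i _ rfl hpU (generic_of_flat i) h1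
    have k3 := pullK_comp (p ∣_ U) U.ι (ι ≫ p) (morphismRestrict_ι p U) hpU (generic_of_flat U.ι) h2
    have k4 := pullK_comp ι p (ι ≫ p) rfl (generic_of_flat ι) hp h2
    simp only [res_eq_pullK] at haX ⊢
    rw [← CommRingCat.comp_apply, k1, ← k2, CommRingCat.comp_apply, ← haX, ← CommRingCat.comp_apply, k3, ← k4,
      CommRingCat.comp_apply]
  · have h2 : (ι ≫ q) (genericPoint _) = genericPoint Y := by
      rw [Scheme.Hom.comp_apply, generic_of_flat ι]; exact hq
    have k1 := pullK_comp j (𝔸(n; Y) ↘ Y) _ e1 (generic_of_flat j) map_genericPoint h2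
    have k2 := pullK_comp ι q (ι ≫ q) rfl (generic_of_flat ι) hq h2
    simp only [res_eq_pullK]
    rw [← CommRingCat.comp_apply, ← CommRingCat.comp_apply]
    exact congrArg (fun t => t.hom b) (k1.trans k2.symm)

end GrothLib.ClProd17
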