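import Groth.Agent.Lib.ClProd17.Fib
import Groth.Agent.Lib.CycDiv.Support
import Groth.Agent.Lib.WDivAff.Main

/-!
# Divisors on a product: splitting off the two factors
-/

set_option autoImplicit false
set_option backward.isDefEq.respectTransparency false

universe u

open CategoryTheory CategoryTheory.Limits AlgebraicGeometry TopologicalSpace
open GrothLib.CycFlat GrothLib.Ref1

noncomputable section

namespace GrothLib.ClProd17

variable {K : Type u} [Field K] [IsAlgClosed K] {X Y P : Scheme.{u}} [IsIntegral X] [IsIntegral Y] [IsIntegral P]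
  {p : P ⟶ X} {q : P ⟶ Y} {f : X ⟶ Spec (CommRingCat.of K)} {g : Y ⟶ Spec (CommRingCat.of K)}
  [LocallyOfFiniteType f] [LocallyOfFiniteType g]
  {δX : X → ℤ} {δY : Y → ℤ} {δP : P → ℤ}

variable (hsq : IsPullback p q f g) (hX : Cyc.IsSetup X δX) (hY : Cyc.IsSetup Y δY) (hP : Cyc.IsSetup P δP)
  (h₁ : Cyc.DeltaCompat p δP δX) (h₂ : Cyc.DeltaCompat q δP δY)

include hsq hX hY hP h₁ h₂ in
/-- A point of codimension one lies over both generic points or is the generic point of a fibre. -/
theorem trichotomy {z : P} (hz : δP z = δP (genericPoint P) - 1) :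
    (p z = genericPoint X ∧ q z = genericPoint Y) ∨
    (z = zfib hsq (p z) ∧ δX (p z) = δX (genericPoint X) - 1 ∧ q z = genericPoint Y) ∨
    (z = zfib hsq.flip (q z) ∧ δY (q z) = δY (genericPoint Y) - 1 ∧ p z = genericPoint X) := by
  obtain ⟨hp1, hp2⟩ := delta_le_proj hsq hP h₁ z
  obtain ⟨hq1, hq2⟩ := delta_le_proj hsq.flip hP h₂ z
  by_cases hx : p z = genericPoint X
  · by_cases hy : q z = genericPoint Y
    · exact Or.inl ⟨hx, hy⟩
    · have h := (hY.2.2 (genericPoint Y) (q z) (genericPoint_specializes _) (Ne.symm hy)).1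
      exact Or.inr (Or.inr ⟨hq2 (by omega), by omega, hx⟩)
  · have h := (hX.2.2 (genericPoint X) (p z) (genericPoint_specializes _) (Ne.symm hx)).1
    have he : δP z = δX (p z) + (δP (genericPoint P) - δX (genericPoint X)) := by omega
    refine Or.inr (Or.inl ⟨hp2 he, by omega, ?_⟩)
    rw [hp2 he]
    exact q_zfib hsq _

theorem finite_support [CompactSpace P] (c : AlgebraicCycle P ℤ) : {x | c x ≠ 0}.Finite := by
  obtain ⟨F, hF⟩ : ∃ V : P → Set P, ∀ x, V x ∈ nhds x ∧ (V x ∩ Function.support ⇑c).Finite :=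
    ⟨_, fun x => (c.supportLocallyFiniteWithinDomain' x trivial).choose_spec⟩
  obtain ⟨t, ht⟩ := finite_cover_nhds fun x => (hF x).1
  refine (t.finite_toSet.biUnion fun x _ => (hF x).2).subset fun x hx => ?_
  obtain ⟨i, hi, hxi⟩ := Set.mem_iUnion₂.1 (ht.symm ▸ Set.mem_univ x)
  exact Set.mem_biUnion hi ⟨hxi, hx⟩

include hsq hX hY hP h₁ h₂ in
theorem surjective [CompactSpace P] [IsLocallyNoetherian P]
    (HS : ∀ z, p z = genericPoint X → q z = genericPoint Y → Order.coheight z = 1 →
      ∃ c : P.functionField, c ≠ 0 ∧ Scheme.ord c z = 1 ∧ ∀ z', p z' = genericPoint X → q z' = genericPoint Y →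
        Order.coheight z' = 1 → z' ≠ z → Scheme.ord c z' = 0)
    (γ : AlgebraicCycle P ℤ) (hγ : γ ∈ Cyc.Zk P δP (δP (genericPoint P) - 1)) :
    ∃ α ∈ Cyc.Zk X δX (δX (genericPoint X) - 1), ∃ β ∈ Cyc.Zk Y δY (δY (genericPoint Y) - 1),
      ∃ γ' : AlgebraicCycle P ℤ,
        (∀ z, γ' z = Cyc.pullFun p δP δX (δP (genericPoint P) - δX (genericPoint X)) α z +
          Cyc.pullFun q δP δY (δP (genericPoint P) - δY (genericPoint Y)) β z) ∧
        Cyc.RatEquiv δP (δP (genericPoint P) - 1) γ γ' := by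
  classical
  let S : Finset P := ((finite_support γ).subset
    (fun z hz => hz.1 : {z | γ z ≠ 0 ∧ p z = genericPoint X ∧ q z = genericPoint Y} ⊆ _)).toFinset
  have hS : ∀ z, z ∈ S ↔ γ z ≠ 0 ∧ p z = genericPoint X ∧ q z = genericPoint Y := fun z => by simp [S]
  have hch : ∀ z ∈ S, Order.coheight z = 1 := fun z hz => coheight_of_delta hP (by
    by_contra hne
    exact ((hS z).1 hz).1 (hγ z hne))
  choose c hc0 hc1 hc2 using fun z : S => HS z.1 ((hS _).1 z.2).2.1 ((hS _).1 z.2).2.2 (hch _ z.2)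
  let φ : P.functionField := ∏ z : S, c z ^ γ z.1
  have hφ : φ ≠ 0 := Finset.prod_ne_zero_iff.2 fun z _ => zpow_ne_zero _ (hc0 z)
  have hord : ∀ z, p z = genericPoint X → q z = genericPoint Y → δP z = δP (genericPoint P) - 1 →
      Scheme.ord φ z = γ z := by
    intro z hx hy hz
    have hz1 := coheight_of_delta hP hz
    rw [WDivAff.ord_prod' _ _ (fun i _ => zpow_ne_zero _ (hc0 i))]
    by_cases hzS : z ∈ S
    · rw [Finset.sum_eq_single ⟨z, hzS⟩]
      · rw [WDivAff.ord_zpow' (hc0 _), hc1 ⟨z, hzS⟩, _root_.mul_one]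
      · intro i _ hi
        rw [WDivAff.ord_zpow' (hc0 _), hc2 i z hx hy hz1 fun e => hi (Subtype.ext e.symm), mul_zero]
      · exact fun h => absurd (Finset.mem_univ _) h
    · rw [Finset.sum_eq_zero]
      · by_contra hne
        exact hzS ((hS z).2 ⟨Ne.symm hne, hx, hy⟩)
      · intro i _
        rw [WDivAff.ord_zpow' (hc0 _), hc2 i z hx hy hz1 fun e => hzS (e ▸ i.2), mul_zero]
  haveI : IsNoetherian P := {}
  have hfdv : {x | dv δP φ x ≠ 0}.Finite := CycDiv.finite_support_divFun hP.2.2 _ (residue_ne_zero hφ)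
  let D := CycDiv.mkCycle (dv δP φ) hfdv
  let γ' := γ - D
  have hD : ∀ z, γ' z = γ z - dv δP φ z := fun z => rfl
  have h0 : ∀ z, p z = genericPoint X → q z = genericPoint Y → γ' z = 0 := by
    intro z hx hy
    rw [hD]
    by_cases hz : δP z = δP (genericPoint P) - 1
    · rw [dv_eq_ord hP hφ hz, hord z hx hy hz, sub_self]
    · rw [hγ z hz, dv_eq_zero hz, sub_zero]
  have hk : ∀ z, δP z ≠ δP (genericPoint P) - 1 → γ' z = 0 := fun z hz => by
    rw [hD, hγ z hz, dv_eq_zero hz, sub_zero]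
  have hfin := finite_support γ'
  let a : X → ℤ := fun x => if δX x = δX (genericPoint X) - 1 then γ' (zfib hsq x) else 0
  let b : Y → ℤ := fun y => if δY y = δY (genericPoint Y) - 1 then γ' (zfib hsq.flip y) else 0
  have ha : {x | a x ≠ 0}.Finite := (hfin.image p).subset fun x hx => by
    simp only [Set.mem_setOf_eq, a] at hx
    split_ifs at hx
    · exact ⟨_, hx, p_zfib hsq x⟩
    · exact absurd rfl hx
  have hb : {y | b y ≠ 0}.Finite := (hfin.image q).subset fun y hy => by
    simp only [Set.mem_setOf_eq, b] at hy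
    split_ifs at hy
    · exact ⟨_, hy, p_zfib hsq.flip y⟩
    · exact absurd rfl hy
  refine ⟨CycDiv.mkCycle a ha, fun x hx => if_neg hx, CycDiv.mkCycle b hb, fun y hy => if_neg hy, γ',
    fun z => ?_, ?_⟩
  · rw [pullFun_eq hsq hP h₁, pullFun_eq hsq.flip hP h₂, CycDiv.coe_mkCycle, CycDiv.coe_mkCycle]
    have hex : δX (genericPoint X) ≠ δX (genericPoint X) - 1 := by omega
    have hey : δY (genericPoint Y) ≠ δY (genericPoint Y) - 1 := by omega
    have hag : a (genericPoint X) = 0 := if_neg hex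
    have hbg : b (genericPoint Y) = 0 := if_neg hey
    by_cases hz : δP z = δP (genericPoint P) - 1
    · rcases trichotomy hsq hX hY hP h₁ h₂ hz with ⟨hx, hy⟩ | ⟨e, hd, hy⟩ | ⟨e, hd, hx⟩
      · rw [h0 z hx hy, hx, hy, hag, hbg, ite_self, ite_self, add_zero]
      · rw [if_pos e, hy, hbg, ite_self, add_zero]
        show γ' z = if _ then _ else _
        rw [if_pos hd, ← e]
      · rw [if_pos e, hx, hag, ite_self, zero_add]
        show γ' z = if _ then _ else _
        rw [if_pos hd, ← e]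
    · rw [hk z hz]
      have h1 : (if z = zfib hsq (p z) then a (p z) else 0) = 0 := by
        split_ifs with e
        · refine if_neg fun hd => hz ?_
          rw [e, delta_zfib hsq h₁, hd]
          omega
        · rfl
      have h2 : (if z = zfib hsq.flip (q z) then b (q z) else 0) = 0 := by
        split_ifs with e
        · refine if_neg fun hd => hz ?_
          rw [e, delta_zfib hsq.flip h₂, hd]
          omega
        · rfl
      rw [h1, h2, add_zero]
  · show Cyc.RatEquivZero δP _ (γ - γ')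
    exact (rz_iff hP).2 ⟨φ, hφ, fun x => by
      show γ x - γ' x = _
      rw [hD]; ring⟩

include hsq hX hY hP h₁ h₂ in
theorem injective [IsLocallyNoetherian P]
    (HI : ∀ φ : P.functionField, φ ≠ 0 →
      (∀ z, p z = genericPoint X → q z = genericPoint Y → Order.coheight z = 1 → Scheme.ord φ z = 0) →
      ∀ (hp : p (genericPoint P) = genericPoint X) (hq : q (genericPoint P) = genericPoint Y),
      ∃ (a : X.functionField) (b : Y.functionField), a ≠ 0 ∧ b ≠ 0 ∧
        φ = (WDivAff.pullK p hp).hom a * (WDivAff.pullK q hq).hom b)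
    (α : AlgebraicCycle X ℤ) (hα : α ∈ Cyc.Zk X δX (δX (genericPoint X) - 1))
    (β : AlgebraicCycle Y ℤ) (hβ : β ∈ Cyc.Zk Y δY (δY (genericPoint Y) - 1))
    (γ' : AlgebraicCycle P ℤ)
    (hγ : ∀ z, γ' z = Cyc.pullFun p δP δX (δP (genericPoint P) - δX (genericPoint X)) α z +
          Cyc.pullFun q δP δY (δP (genericPoint P) - δY (genericPoint Y)) β z)
    (hrz : Cyc.RatEquivZero δP (δP (genericPoint P) - 1) γ') :
    Cyc.RatEquivZero δX (δX (genericPoint X) - 1) α ∧ Cyc.RatEquivZero δY (δY (genericPoint Y) - 1) β := by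
  classical
  obtain ⟨φ, hφ, hφe⟩ := (rz_iff hP).1 hrz
  haveI := flat_proj hsq
  haveI := flat_proj hsq.flip
  haveI := lft_proj hsq
  haveI := lft_proj hsq.flip
  have hp := generic_of_flat p
  have hq := generic_of_flat q
  have hαg : α (genericPoint X) = 0 := hα _ (by omega)
  have hβg : β (genericPoint Y) = 0 := hβ _ (by omega)
  obtain ⟨a, b, ha, hb, hab⟩ := HI φ hφ (fun z hx hy hz => by
    have hzd := delta_of_coheight hP hz
    rw [← dv_eq_ord hP hφ hzd, ← hφe, hγ, pullFun_eq hsq hP h₁, pullFun_eq hsq.flip hP h₂, hx, hy, hαg, hβg,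
      ite_self, ite_self, add_zero]) hp hq
  obtain ⟨r, hr, her, -⟩ := exists_relDim hsq h₁
  obtain ⟨t, ht, het, -⟩ := exists_relDim hsq.flip h₂
  have hva : dv δX a (genericPoint X) = 0 := dv_eq_zero (by omega)
  have hvb : dv δY b (genericPoint Y) = 0 := dv_eq_zero (by omega)
  have key : ∀ z, (if z = zfib hsq (p z) then α (p z) else 0) + (if z = zfib hsq.flip (q z) then β (q z) else 0) =
      (if z = zfib hsq (p z) then dv δX a (p z) else 0) + (if z = zfib hsq.flip (q z) then dv δY b (q z) else 0) := by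
    intro z
    rw [← pullFun_eq hsq hP h₁, ← pullFun_eq hsq.flip hP h₂, ← pullFun_eq hsq hP h₁, ← pullFun_eq hsq.flip hP h₂,
      ← hγ, hφe, hab, dv_mul hP ((map_ne_zero_iff _ (WDivAff.pullK_injective p hp)).2 ha)
        ((map_ne_zero_iff _ (WDivAff.pullK_injective q hq)).2 hb),
      dv_pullK hP hX p hr h₁ hp ha, dv_pullK hP hY q ht h₂ hq hb, her, het]
  refine ⟨(rz_iff hX).2 ⟨a, ha, fun x => ?_⟩, (rz_iff hY).2 ⟨b, hb, fun y => ?_⟩⟩
  · have h := key (zfib hsq x)
    rw [q_zfib hsq x, hβg, hvb, ite_self, add_zero, add_zero, p_zfib hsq x, if_pos rfl, if_pos rfl] at h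
    exact h
  · have h := key (zfib hsq.flip y)
    rw [q_zfib hsq.flip y, hαg, hva, ite_self, zero_add, zero_add, p_zfib hsq.flip y, if_pos rfl, if_pos rfl] at h
    exact h

end GrothLib.ClProd17
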