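import Groth.Agent.Lib.ClProd17.Basic
import Groth.Agent.Lib.Cube.AmpleCrit
import Groth.Agent.Lib.FibreFlat.Stalk
import Groth.Agent.Lib.CycFlat.Fibre
import Groth.Agent.Lib.Altitude.Fibre

/-!
# Fibres of a projection of a product of varieties
-/

set_option autoImplicit false
set_option backward.isDefEq.respectTransparency false

universe u

open CategoryTheory CategoryTheory.Limits AlgebraicGeometry TopologicalSpace
open GrothLib.CycFlat

noncomputable section

namespace GrothLib.ClProd17

variable {K : Type u} [Field K] [IsAlgClosed K] {X Y P : Scheme.{u}} [IsIntegral Y]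
  {p : P ⟶ X} {q : P ⟶ Y} {f : X ⟶ Spec (CommRingCat.of K)} {g : Y ⟶ Spec (CommRingCat.of K)}
  [LocallyOfFiniteType g]

theorem flat_to_field {W : Scheme.{u}} (t : W ⟶ Spec (CommRingCat.of K)) : Flat t := by
  haveI : Subsingleton ↥(Spec (CommRingCat.of K)) := inferInstanceAs (Subsingleton (PrimeSpectrum K))
  infer_instance

variable (hsq : IsPullback p q f g)
include hsq

theorem flat_proj : Flat p :=
  MorphismProperty.of_isPullback (P := @Flat) hsq.flip (flat_to_field g)

theorem lft_proj : LocallyOfFiniteType p :=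
  MorphismProperty.of_isPullback (P := @LocallyOfFiniteType) hsq.flip inferInstance

theorem gi_proj : GeometricallyIntegral p :=
  MorphismProperty.of_isPullback (P := @GeometricallyIntegral) hsq.flip (Cube.geometricallyIntegral_of_isIntegral g)

theorem isIntegral_fib (x : X) : IsIntegral (p.fiber x) :=
  haveI := gi_proj hsq
  inferInstance

/-- The generic point of the fibre over a point. -/
def zfib (x : X) : P :=
  haveI := isIntegral_fib hsq x
  p.fiberι x (genericPoint (p.fiber x))

theorem p_zfib (x : X) : p (zfib hsq x) = x :=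
  haveI := isIntegral_fib hsq x
  apply_fiberι p x _

theorem maxFib_zfib (x : X) : MaxFib p (zfib hsq x) := by
  haveI := isIntegral_fib hsq x
  exact (maxFib_fiberι_iff p x _).2 fun w hw => (hw.antisymm (genericPoint_specializes w)).eq

theorem eq_zfib {z : P} (hz : MaxFib p z) : z = zfib hsq (p z) := by
  haveI := isIntegral_fib hsq (p z)
  have h := ((maxFib_asFiber_iff p z).1 hz _ (genericPoint_specializes (p.asFiber z))).symm
  calc z = p.fiberι (p z) (p.asFiber z) := (Scheme.Hom.fiberι_asFiber p z).symm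
    _ = _ := by rw [h]; rfl

theorem maxFib_iff {z : P} : MaxFib p z ↔ z = zfib hsq (p z) :=
  ⟨eq_zfib hsq, fun h => h ▸ maxFib_zfib hsq _⟩

theorem q_zfib (x : X) : q (zfib hsq x) = genericPoint Y := by
  haveI := isIntegral_fib hsq x
  have h1 : IsPullback (p.fiberι x) (p.fiberToSpecResidueField x) p (X.fromSpecResidueField x) :=
    IsPullback.of_hasPullback p (X.fromSpecResidueField x)
  have h2 := h1.paste_horiz hsq.flip
  haveI : Flat (p.fiberι x ≫ q) :=
    MorphismProperty.of_isPullback (P := @Flat) h2.flip (flat_to_field (X.fromSpecResidueField x ≫ f))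
  exact generic_of_flat (p.fiberι x ≫ q)

theorem map_max_zfib (x : X) :
    (IsLocalRing.maximalIdeal (X.presheaf.stalk (p (zfib hsq x)))).map (p.stalkMap (zfib hsq x)).hom =
      IsLocalRing.maximalIdeal (P.presheaf.stalk (zfib hsq x)) := by
  haveI := isIntegral_fib hsq x
  obtain ⟨hs, hk⟩ := FibreFlat.fiberι_stalkMap p x (genericPoint (p.fiber x))
  have hF : IsField ((p.fiber x).presheaf.stalk (genericPoint (p.fiber x))) :=
    Field.toIsField (p.fiber x).functionField
  letI := hF.toField
  haveI : (RingHom.ker ((p.fiberι x).stalkMap (genericPoint (p.fiber x))).hom).IsMaximal :=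
    RingHom.ker_isMaximal_of_surjective _ hs
  exact hk.symm.trans (IsLocalRing.eq_maximalIdeal inferInstance)

theorem fibLength_zfib (x : X) : fibLength p (zfib hsq x) = 1 := by
  rw [fibLength, map_max_zfib hsq x]
  haveI : IsSimpleModule (P.presheaf.stalk (zfib hsq x))
      (P.presheaf.stalk (zfib hsq x) ⧸ IsLocalRing.maximalIdeal (P.presheaf.stalk (zfib hsq x))) :=
    isSimpleModule_iff_isCoatom.2 (IsLocalRing.maximalIdeal.isMaximal _).out
  exact Module.length_eq_one _ _

theorem exists_hasRelDim : ∃ r : ℕ, Cyc.HasRelDim p r := by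
  obtain ⟨n, hn, -⟩ := Altitude.exists_trdeg_eq_dim_closure g (genericPoint Y)
  refine ⟨n, hasRelDim_of_isPullback hsq.flip ((hasRelDim_iff g n).2 fun w hw => ?_)⟩
  obtain rfl : genericPoint Y = w := hw _ (Subsingleton.elim (α := PrimeSpectrum K) _ _) (genericPoint_specializes w)
  exact hn

variable [IsIntegral X] [IsIntegral P]

theorem maxFib_generic : MaxFib p (genericPoint P) :=
  fun w _ hw => (hw.antisymm (genericPoint_specializes w)).eq

/-- The shift of dimension functions along a projection. -/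
theorem exists_relDim {δP : P → ℤ} {δX : X → ℤ} (hc : Cyc.DeltaCompat p δP δX) :
    ∃ r : ℕ, Cyc.HasRelDim p r ∧ δP (genericPoint P) - δX (genericPoint X) = (r : ℤ) ∧
      ∀ z, MaxFib p z → δP z = δX (p z) + (δP (genericPoint P) - δX (genericPoint X)) := by
  haveI := lft_proj hsq
  haveI := flat_proj hsq
  obtain ⟨r, hr⟩ := exists_hasRelDim hsq
  have h := shift_of_hasRelDim p hr hc
  have h0 := h _ (maxFib_generic hsq)
  rw [generic_of_flat p] at h0
  exact ⟨r, hr, by omega, fun z hz => by have := h z hz; omega⟩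

open Classical in
theorem pullFun_eq {δP : P → ℤ} {δX : X → ℤ} (hP : Cyc.IsSetup P δP) (hc : Cyc.DeltaCompat p δP δX)
    (a : X → ℤ) (z : P) :
    Cyc.pullFun p δP δX (δP (genericPoint P) - δX (genericPoint X)) a z =
      if z = zfib hsq (p z) then a (p z) else 0 := by
  obtain ⟨r, hr, he, hsh⟩ := exists_relDim hsq hc
  rw [pullFun_apply]
  have h := (eq_add_iff_maxFib p hP.2.2 hsh z).1
  by_cases hz : z = zfib hsq (p z)
  · rw [if_pos hz, if_pos (h.2 ((maxFib_iff hsq).2 hz))]
    have hl : fibLength p z = 1 := by rw [hz]; exact fibLength_zfib hsq _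
    rw [hl, ENat.toNat_one, Nat.cast_one, _root_.mul_one]
  · rw [if_neg hz, if_neg fun e => hz ((maxFib_iff hsq).1 (h.1 e))]

theorem delta_zfib {δP : P → ℤ} {δX : X → ℤ} (hc : Cyc.DeltaCompat p δP δX) (x : X) :
    δP (zfib hsq x) = δX x + (δP (genericPoint P) - δX (genericPoint X)) := by
  obtain ⟨r, hr, he, hsh⟩ := exists_relDim hsq hc
  have h := hsh _ (maxFib_zfib hsq x)
  rwa [p_zfib hsq x] at h

theorem delta_le_proj {δP : P → ℤ} {δX : X → ℤ} (hP : Cyc.IsSetup P δP) (hc : Cyc.DeltaCompat p δP δX) (z : P) :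
    δP z ≤ δX (p z) + (δP (genericPoint P) - δX (genericPoint X)) ∧
      (δP z = δX (p z) + (δP (genericPoint P) - δX (genericPoint X)) → z = zfib hsq (p z)) := by
  obtain ⟨r, hr, he, hsh⟩ := exists_relDim hsq hc
  exact ⟨(eq_add_iff_maxFib p hP.2.2 hsh z).2,
    fun e => (maxFib_iff hsq).1 ((eq_add_iff_maxFib p hP.2.2 hsh z).1.1 e)⟩

end GrothLib.ClProd17
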